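import Mathlib.RingTheory.AdicCompletion.Algebra
import Mathlib.RingTheory.AdicCompletion.Completeness
import Mathlib

/-! # Maps of completions, checked on truncations -/

set_option autoImplicit false
universe u

namespace Groth.Agent.ComplBij

open AdicCompletion

variable {A B : Type u} [CommRing A] [CommRing B] {I : Ideal A} {J : Ideal B} (φ : A →+* B)
  (ψ : AdicCompletion I A →+* AdicCompletion J B)

theorem map_pow_le (hIJ : I.map φ ≤ J) (n : ℕ) : I ^ n ≤ (J ^ n).comap φ := by
  rw [← Ideal.map_le_iff_le_comap, Ideal.map_pow]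
  exact Ideal.pow_right_mono hIJ n

/-- A map of completions extending `φ` is computed by the truncations of `φ`. -/
theorem evalₐ_comp (hfg : I.FG) (hIJ : I.map φ ≤ J) (hψ : ∀ a, ψ (algebraMap A _ a) = algebraMap B _ (φ a))
    (n : ℕ) (x : AdicCompletion I A) :
    evalₐ J n (ψ x) = Ideal.quotientMap (J ^ n) φ (map_pow_le φ hIJ n) (evalₐ I n x) := by
  obtain ⟨a, ha⟩ := Ideal.Quotient.mk_surjective (evalₐ I n x)
  have hker : x - algebraMap A _ a ∈ (eval I A n).ker := by
    have h : (I ^ n • ⊤ : Ideal A) = I ^ n := by simp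
    have h0 : evalₐ I n (x - algebraMap A _ a) = 0 := by
      rw [map_sub, AlgHom.commutes, ← ha]; exact sub_self _
    rw [LinearMap.mem_ker, ← factor_evalₐ_eq_eval I _ h.ge, h0, _root_.map_zero]
  rw [← pow_smul_top_eq_ker_eval hfg] at hker
  have hz : ∀ z ∈ (I ^ n • ⊤ : Submodule A (AdicCompletion I A)), evalₐ J n (ψ z) = 0 := by
    intro z hz
    refine Submodule.smul_induction_on hz (fun r hr z _ => ?_) fun z w hz hw => ?_
    · rw [Algebra.smul_def, map_mul, map_mul, hψ, AlgHom.commutes, Ideal.Quotient.algebraMap_eq,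
        Ideal.Quotient.eq_zero_iff_mem.2 (Ideal.mem_comap.1 (map_pow_le φ hIJ n hr)), zero_mul]
    · rw [map_add, map_add, hz, hw, add_zero]
  have h1 := hz _ hker
  rw [map_sub, map_sub, hψ, AlgHom.commutes, sub_eq_zero] at h1
  rw [h1, ← ha, Ideal.quotientMap_mk]
  rfl

/-- Bijective on all truncations implies bijective on completions. -/
theorem bijective_of_truncations (hfg : I.FG) (hIJ : I.map φ ≤ J)
    (hψ : ∀ a, ψ (algebraMap A _ a) = algebraMap B _ (φ a))
    (hinj : ∀ (n : ℕ) (a : A), φ a ∈ J ^ n → a ∈ I ^ n)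
    (hsurj : ∀ (n : ℕ) (b : B), ∃ a, φ a - b ∈ J ^ n) : Function.Bijective ψ := by
  constructor
  · rw [injective_iff_map_eq_zero]
    intro x hx
    refine ext_evalₐ fun n => ?_
    obtain ⟨a, ha⟩ := Ideal.Quotient.mk_surjective (evalₐ I n x)
    have h := evalₐ_comp φ ψ hfg hIJ hψ n x
    rw [hx, _root_.map_zero, ← ha, Ideal.quotientMap_mk] at h
    rw [_root_.map_zero, ← ha, Ideal.Quotient.eq_zero_iff_mem]
    exact hinj n a (Ideal.Quotient.eq_zero_iff_mem.1 h.symm)
  · intro y
    have h0 : ∀ n, ∃ a, Ideal.Quotient.mk (J ^ n) (φ a) = evalₐ J n y := fun n => by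
      obtain ⟨b, hb⟩ := Ideal.Quotient.mk_surjective (evalₐ J n y)
      obtain ⟨a, ha⟩ := hsurj n b
      exact ⟨a, (Ideal.Quotient.eq.2 ha).trans hb⟩
    choose a ha using h0
    obtain ⟨c, rfl⟩ := AdicCompletion.mk_surjective J B y
    simp only [evalₐ_mk] at ha
    have hstep : ∀ n, a n ≡ a (n + 1) [SMOD (I ^ n • ⊤ : Submodule A A)] := fun n => by
      rw [SModEq.sub_mem, smul_eq_mul, Ideal.mul_top]
      refine hinj n _ ?_
      have h1 := Ideal.Quotient.eq.1 (ha n)
      have h2 := Ideal.pow_le_pow_right (Nat.le_succ n) (Ideal.Quotient.eq.1 (ha (n + 1)))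
      have h3 : c.val n - c.val (n + 1) ∈ J ^ n := by
        have := SModEq.sub_mem.1 (c.property (Nat.le_succ n))
        rwa [smul_eq_mul, Ideal.mul_top] at this
      rw [map_sub, show φ (a n) - φ (a (n + 1)) =
        (φ (a n) - c.val n) + (c.val n - c.val (n + 1)) - (φ (a (n + 1)) - c.val (n + 1)) by ring]
      exact sub_mem (add_mem h1 h3) h2
    refine ⟨AdicCompletion.mk I A (AdicCauchySequence.mk I A a hstep), ext_evalₐ fun n => ?_⟩
    rw [evalₐ_comp φ ψ hfg hIJ hψ, evalₐ_mk, evalₐ_mk, Ideal.quotientMap_mk]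
    exact ha n

/-- Surjectivity modulo every power from the residue fields. -/
theorem exists_sub_mem_pow {A B : Type u} [CommRing A] [CommRing B] (φ : A →+* B) {I : Ideal A} {J : Ideal B}
    (hJ : J ≤ I.map φ ⊔ J ^ 2) (hIJ : I.map φ ≤ J) (h1 : ∀ b, ∃ a, φ a - b ∈ J) (n : ℕ) (b : B) :
    ∃ a, φ a - b ∈ J ^ n := by
  have hpow : ∀ n : ℕ, J ^ n ≤ (I ^ n).map φ ⊔ J ^ (n + 1) := by
    intro n
    induction n with
    | zero => simp [Ideal.map_top]
    | succ n ih =>
      rw [pow_succ J n]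
      refine (Ideal.mul_mono ih hJ).trans ?_
      rw [Ideal.sup_mul, Ideal.mul_sup]
      refine sup_le (sup_le ?_ ?_) ?_
      · rw [← Ideal.map_mul, ← pow_succ]; exact le_sup_left
      · refine le_trans (Ideal.mul_mono_left ((Ideal.map_pow φ I n).le.trans (Ideal.pow_right_mono hIJ n))) ?_
        rw [← pow_add]; exact le_sup_right
      · refine le_trans (Ideal.mul_mono_right (sup_le hIJ (Ideal.pow_le_self (by norm_num)))) ?_
        rw [← pow_succ]; exact le_sup_right
  induction n generalizing b with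
  | zero => exact ⟨0, by simp⟩
  | succ n ih =>
    obtain ⟨a, ha⟩ := ih b
    obtain ⟨u, hu, v, hv, huv⟩ := Submodule.mem_sup.1 (hpow n ha)
    suffices key : ∀ u ∈ (I ^ n).map φ, ∃ a', φ a' - u ∈ J ^ (n + 1) by
      obtain ⟨a', ha'⟩ := key u hu
      refine ⟨a - a', ?_⟩
      rw [map_sub, show φ a - φ a' - b = v - (φ a' - u) by linear_combination -huv]
      exact sub_mem hv ha'
    intro u hu
    induction hu using Submodule.span_induction with
    | mem x hx => obtain ⟨w, _, rfl⟩ := hx; exact ⟨w, by simp⟩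
    | zero => exact ⟨0, by simp⟩
    | add x y _ _ hx hy =>
      obtain ⟨p, hp⟩ := hx
      obtain ⟨q, hq⟩ := hy
      exact ⟨p + q, by rw [map_add, add_sub_add_comm]; exact add_mem hp hq⟩
    | smul r x hx' hx =>
      obtain ⟨p, hp⟩ := hx
      obtain ⟨s, hs⟩ := h1 r
      have hxJ : x ∈ J ^ n := (Ideal.map_pow φ I n).le.trans (Ideal.pow_right_mono hIJ n) hx'
      refine ⟨s * p, ?_⟩
      rw [map_mul, smul_eq_mul, show φ s * φ p - r * x = φ s * (φ p - x) + (φ s - r) * x by ring]
      exact add_mem (Ideal.mul_mem_left _ _ hp) (pow_succ' J n ▸ Ideal.mul_mem_mul hs hxJ)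

end Groth.Agent.ComplBij
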